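import Cfsg.Agent.Lib.Ru76.AutoMain
import Cfsg.Agent.Lib.Compute.AutBound

/-!
# The outer automorphism group, given the order
-/

set_option autoImplicit false

namespace Cfsg.Agent.Lib.Ru76

open Cfsg.Spor Cfsg.Agent.Lib.Compute

/-- Given the centre, order and simplicity, all automorphisms are inner. -/
theorem card_out_of_order
    (h : Nat.card ↥(Subgroup.center ↥fourRu) = 4 ∧ Nat.card Ru = 145926144000 ∧ IsSimpleGroup Ru) :
    Nat.card (Cfsg.Out Ru) = 1 := by
  obtain ⟨hC, hN, hS⟩ := h
  obtain ⟨e⟩ := nonempty_equiv hC hN hS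
  rw [card_out_congr e]
  have hG : Nat.card ↥ruG = 145926144000 := (card_ruG hC hN hS).1
  haveI : Finite ↥ruG := Nat.finite_of_card_ne_zero (by rw [hG]; norm_num)
  rw [Nat.card_eq_one_iff_unique]
  refine ⟨⟨fun a b => ?_⟩, ⟨1⟩⟩
  induction a using QuotientGroup.induction_on with | _ a =>
  induction b using QuotientGroup.induction_on with | _ b =>
  exact QuotientGroup.eq.mpr (mem_inn hG _)

end Cfsg.Agent.Lib.Ru76
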