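import Cfsg.Agent.Lib.Ru76.CentLift
import Cfsg.Agent.Lib.Ru76.OutRu
import Cfsg.Prelude.Def_CaseTheorems

/-!
# The double cover of the Rudvalis group: fusion facts
-/

set_option autoImplicit false
set_option maxRecDepth 100000

namespace Cfsg.Agent.Lib.Ru76

open Cfsg.Spor Cfsg.Agent.Lib.Compute
open scoped commutatorElement

attribute [local irreducible] mulC oneC actC

section Transfer

variable [Finite ↥ruG]

/-- The Sylow subgroup inside the matrix group. -/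
noncomputable def sylR : Subgroup ↥ruG := syl.subgroupOf ruG

theorem isPGroup_sylR : IsPGroup 2 ↥sylR := by
  refine IsPGroup.of_card (n := 14) ?_
  rw [sylR, Nat.card_congr (Subgroup.subgroupOfEquivOfLe syl_le).toEquiv, card_syl]

theorem index_sylR (hN : Nat.card ↥ruG = 145926144000) : ¬ 2 ∣ sylR.index := by
  have h := sylR.card_mul_index
  rw [sylR, Nat.card_congr (Subgroup.subgroupOfEquivOfLe syl_le).toEquiv, card_syl, hN] at h
  have h' : (syl.subgroupOf ruG).index = 8906625 :=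
    Nat.eq_of_mul_eq_mul_left (by norm_num : 0 < 2 ^ 14) (h.trans (by norm_num))
  rw [sylR, h']
  norm_num

theorem exists_conj_syl (hN : Nat.card ↥ruG = 145926144000) {x : ↥ruG} {k : ℕ}
    (hx : x ^ 2 ^ k = 1) : ∃ g : ↥ruG, ((g * x * g⁻¹ : ↥ruG) : ↥Lin) ∈ syl := by
  haveI : Fact (Nat.Prime 2) := ⟨Nat.prime_two⟩
  have hp : IsPGroup 2 ↥(Subgroup.zpowers x) := by
    intro ⟨u, hu⟩
    obtain ⟨i, rfl⟩ := hu
    exact ⟨k, Subtype.ext (by
      show (x ^ i) ^ (2 ^ k) = 1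
      rw [← zpow_natCast, ← zpow_mul, mul_comm, zpow_mul, zpow_natCast, hx, one_zpow])⟩
  obtain ⟨Q, hQ⟩ := hp.exists_le_sylow
  obtain ⟨g, hg⟩ := MulAction.exists_smul_eq ↥ruG Q
    (isPGroup_sylR.toSylow (index_sylR hN))
  refine ⟨g, ?_⟩
  have h := Subgroup.smul_mem_pointwise_smul x (MulAut.conj g) _ (hQ (Subgroup.mem_zpowers x))
  have h2 : g * x * g⁻¹ ∈ ((g • Q : Sylow 2 ↥ruG) : Subgroup ↥ruG) := h
  rw [hg] at h2
  exact h2

/-- The central involution in the matrix group. -/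
noncomputable def alR : ↥ruG := ⟨alE, syl_le alE_mem⟩

/-- The other involution in the matrix group. -/
noncomputable def beR : ↥ruG := ⟨beE, elemW_mem _⟩

theorem involution_classes (hN : Nat.card ↥ruG = 145926144000) {x : ↥ruG} (hx : x ^ 2 = 1)
    (hx1 : x ≠ 1) : ∃ g : ↥ruG, x = g * alR * g⁻¹ ∨ x = g * beR * g⁻¹ := by
  obtain ⟨g, hg⟩ := exists_conj_syl hN (x := x) (k := 1) (by rwa [pow_one])
  have hy2 : (g * x * g⁻¹) * (g * x * g⁻¹) = 1 := by
    rw [show (g * x * g⁻¹) * (g * x * g⁻¹) = g * x ^ 2 * g⁻¹ by rw [sq]; group, hx]; group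
  have hy1 : g * x * g⁻¹ ≠ 1 := fun e => hx1 (conj_eq_one_iff.1 e)
  obtain ⟨h, hh, hc⟩ := syl_involution hg (congrArg Subtype.val hy2) fun e => hy1 (Subtype.ext e)
  refine ⟨g⁻¹ * ⟨h, hh⟩, ?_⟩
  rcases hc with hc | hc
  · left
    have e : g * x * g⁻¹ * ⟨h, hh⟩ = ⟨h, hh⟩ * alR := Subtype.ext hc
    calc x = g⁻¹ * (g * x * g⁻¹ * ⟨h, hh⟩) * (⟨h, hh⟩ : ↥ruG)⁻¹ * g := by group
      _ = _ := by rw [e]; group
  · right
    have e : g * x * g⁻¹ * ⟨h, hh⟩ = ⟨h, hh⟩ * beR := Subtype.ext hc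
    calc x = g⁻¹ * (g * x * g⁻¹ * ⟨h, hh⟩) * (⟨h, hh⟩ : ↥ruG)⁻¹ * g := by group
      _ = _ := by rw [e]; group

theorem square_class (hN : Nat.card ↥ruG = 145926144000) {x : ↥ruG} (hx4 : x ^ 4 = 1)
    (hx2 : x ^ 2 ≠ 1) : ∃ g : ↥ruG, x ^ 2 = g * alR * g⁻¹ := by
  obtain ⟨g, hg⟩ := exists_conj_syl hN (x := x) (k := 2)
    (by rw [show (2 : ℕ) ^ 2 = 4 from rfl]; exact hx4)
  set y := g * x * g⁻¹ with hy
  have hy2 : y ^ 2 = g * x ^ 2 * g⁻¹ := conj_pow
  have h1 : y * y ≠ 1 := by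
    rw [← sq, hy2]; exact fun e => hx2 (conj_eq_one_iff.1 e)
  have h2 : y * y * (y * y) = 1 := by
    rw [← sq, ← sq, hy2, conj_pow, ← pow_mul, hx4, mul_one, mul_inv_cancel]
  obtain ⟨h, hh, hc⟩ := syl_square hg (fun e => h1 (Subtype.ext e)) (congrArg Subtype.val h2)
  refine ⟨g⁻¹ * ⟨h, hh⟩, ?_⟩
  have e : g * x ^ 2 * g⁻¹ * ⟨h, hh⟩ = ⟨h, hh⟩ * alR := by
    rw [← hy2, sq]; exact Subtype.ext hc
  calc x ^ 2 = g⁻¹ * (g * x ^ 2 * g⁻¹ * ⟨h, hh⟩) * (⟨h, hh⟩ : ↥ruG)⁻¹ * g := by group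
    _ = _ := by rw [e]; group

end Transfer

theorem finite_fourRu
    (h : Nat.card ↥(Subgroup.center ↥fourRu) = 4 ∧ Nat.card Ru = 145926144000 ∧ IsSimpleGroup Ru) :
    Finite ↥fourRu := by
  haveI : Finite ↥(Subgroup.center ↥fourRu) := Nat.finite_of_card_ne_zero (by rw [h.1]; norm_num)
  haveI : Finite (↥fourRu ⧸ Subgroup.center ↥fourRu) :=
    Nat.finite_of_card_ne_zero (show Nat.card Ru ≠ 0 by rw [h.2.1]; norm_num)
  exact Finite.of_subgroup_quotient (Subgroup.center ↥fourRu)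

/-- The facts about a double cover needed for the fusion argument. -/
theorem cover_facts
    (h : Nat.card ↥(Subgroup.center ↥fourRu) = 4 ∧ Nat.card Ru = 145926144000 ∧ IsSimpleGroup Ru)
    {A : Type*} [Group A] [Finite A] (hP : Group.IsPerfect A)
    (hZ : Nat.card ↥(Subgroup.center A) = 2) (hAX : IsoRu (A ⧸ Subgroup.center A)) :
    (∀ φ : MulAut A, ∃ a : A, ∀ x : A, φ x = a * x * a⁻¹) ∧
    (∀ s : A, s ^ 2 = 1 → s ∉ Subgroup.center A → ∃ x : A, x ^ 4 = s) ∧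
    (∀ x : A, x ^ 4 ∈ Subgroup.center A → x ^ 4 = 1) ∧
    (∀ s : A, s ^ 2 = 1 → s ∉ Subgroup.center A → ∃ P : Subgroup A, IsPGroup 2 ↥P ∧
      ¬ 2 ∣ P.index ∧ (∀ p ∈ P, Commute p s) ∧
      ∀ u ∈ P, (∀ p ∈ P, Commute p u) → u ^ 2 * s⁻¹ ∉ Subgroup.center A) := by
  obtain ⟨e₀⟩ := nonempty_equiv h.1 h.2.1 h.2.2
  obtain ⟨e₁⟩ := hAX
  have hN : Nat.card ↥ruG = 145926144000 := (card_ruG h.1 h.2.1 h.2.2).1
  haveI : Finite ↥ruG := Nat.finite_of_card_ne_zero (by rw [hN]; norm_num)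
  haveI := finite_fourRu h
  haveI : Fact (Nat.Prime 2) := ⟨Nat.prime_two⟩
  let e := e₁.trans e₀
  let σ : A →* ↥ruG := e.toMonoidHom.comp (QuotientGroup.mk' (Subgroup.center A))
  have hσ : Function.Surjective σ := e.surjective.comp (QuotientGroup.mk'_surjective _)
  have hker : ∀ a : A, σ a = 1 ↔ a ∈ Subgroup.center A := fun a =>
    (map_eq_one_iff e e.injective).trans (QuotientGroup.eq_one_iff a)
  have hc2 : ∀ c ∈ Subgroup.center A, c ^ 2 = 1 := fun c hc => by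
    have : (⟨c, hc⟩ : ↥(Subgroup.center A)) ^ 2 = 1 := by rw [← hZ]; exact pow_card_eq_one'
    exact congrArg Subtype.val this
  let π : ↥fourRu →* ↥ruG := rho.codRestrict ruG fun g => (rho_range h).le ⟨g, rfl⟩
  have hπ : Function.Surjective π := fun x => by
    obtain ⟨g, hg⟩ := (rho_range h).ge x.2
    exact ⟨g, Subtype.ext hg⟩
  have hπk : ∀ g : ↥fourRu, π g = 1 → g ∈ Subgroup.center ↥fourRu := fun g hg => by
    rw [← ker_rho h]; exact congrArg Subtype.val hg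
  let Γ : Subgroup (A × ↥fourRu) :=
    (σ.comp (MonoidHom.fst A ↥fourRu)).eqLocus (π.comp (MonoidHom.snd A ↥fourRu))
  have hmemΓ : ∀ {a : A} {d : ↥fourRu}, σ a = π d → (a, d) ∈ Γ := fun h' => h'
  let D := commutator ↥Γ
  let f : ↥D →* A := (MonoidHom.fst A ↥fourRu).comp (Γ.subtype.comp D.subtype)
  let g : ↥D →* ↥fourRu := (MonoidHom.snd A ↥fourRu).comp (Γ.subtype.comp D.subtype)
  have hfg : ∀ p, σ (f p) = π (g p) := fun p => (p : ↥Γ).2
  let τ : ↥D →* ↥ruG := σ.comp f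
  have hf : Function.Surjective f := by
    let f₀ : ↥Γ →* A := (MonoidHom.fst A ↥fourRu).comp Γ.subtype
    have hf₀ : Function.Surjective f₀ := fun a => by
      obtain ⟨d, hd⟩ := hπ (σ a)
      exact ⟨⟨(a, d), hmemΓ hd.symm⟩, rfl⟩
    intro a
    have : a ∈ (commutator ↥Γ).map f₀ := by
      rw [commutator_def, Subgroup.map_commutator, Subgroup.map_top_of_surjective _ hf₀,
        ← commutator_def, hP.commutator_eq_top]
      exact Subgroup.mem_top a
    obtain ⟨p, hp, rfl⟩ := this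
    exact ⟨⟨p, hp⟩, rfl⟩
  have hτ : Function.Surjective τ := hσ.comp hf
  have hcen : ∀ p : ↥Γ, σ (p : A × ↥fourRu).1 = 1 → p ∈ Subgroup.center ↥Γ := fun p hp => by
    have h1 := (hker _).1 hp
    have h2 := hπk _ (p.2.symm.trans hp)
    exact Subgroup.mem_center_iff.2 fun q => Subtype.ext (Prod.ext
      (Subgroup.mem_center_iff.1 h1 _) (Subgroup.mem_center_iff.1 h2 _))
  have hdec : ∀ p : ↥Γ, ∃ d : ↥D, (d : ↥Γ)⁻¹ * p ∈ Subgroup.center ↥Γ := fun p => by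
    obtain ⟨d, hd⟩ := hτ (σ (p : A × ↥fourRu).1)
    refine ⟨d, hcen _ ?_⟩
    show σ ((f d)⁻¹ * (p : A × ↥fourRu).1) = 1
    rw [map_mul, map_inv, show σ (f d) = σ (p : A × ↥fourRu).1 from hd, inv_mul_cancel]
  have hD : ∀ p : ↥D, p ∈ commutator ↥D := by
    have hle : commutator ↥Γ ≤ (commutator ↥D).map D.subtype := by
      rw [commutator_eq_closure, Subgroup.closure_le]
      rintro _ ⟨p, q, rfl⟩
      obtain ⟨d, hd⟩ := hdec p
      obtain ⟨d', hd'⟩ := hdec q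
      refine ⟨⁅d, d'⁆, Subgroup.commutator_mem_commutator (Subgroup.mem_top _) (Subgroup.mem_top _), ?_⟩
      set c := (d : ↥Γ)⁻¹ * p with hc
      set c' := (d' : ↥Γ)⁻¹ * q with hc'
      have k1 : ∀ w, w * c = c * w := Subgroup.mem_center_iff.1 hd
      have k2 : ∀ w, w * c' = c' * w := Subgroup.mem_center_iff.1 hd'
      show ⁅(d : ↥Γ), (d' : ↥Γ)⁆ = ⁅p, q⁆
      have ep : p = (d : ↥Γ) * c := by simp [hc]
      have eq : q = (d' : ↥Γ) * c' := by simp [hc']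
      clear_value c c'
      subst ep eq
      rw [commutatorElement_def, commutatorElement_def, mul_inv_rev, mul_inv_rev]
      symm
      calc (d : ↥Γ) * c * ((d' : ↥Γ) * c') * (c⁻¹ * (d : ↥Γ)⁻¹) * (c'⁻¹ * (d' : ↥Γ)⁻¹)
          = (d : ↥Γ) * ((c * (d' : ↥Γ)) * c') * (c⁻¹ * (d : ↥Γ)⁻¹) * (c'⁻¹ * (d' : ↥Γ)⁻¹) := by group
        _ = (d : ↥Γ) * (d' : ↥Γ) * (c * c' * c⁻¹) * (d : ↥Γ)⁻¹ * (c'⁻¹ * (d' : ↥Γ)⁻¹) := by
          rw [← k1]; group
        _ = (d : ↥Γ) * (d' : ↥Γ) * (c' * (d : ↥Γ)⁻¹) * (c'⁻¹ * (d' : ↥Γ)⁻¹) := by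
          rw [← k1 c']; group
        _ = _ := by rw [← k2 (d : ↥Γ)⁻¹]; group
    intro p
    obtain ⟨q, hq, hqp⟩ := hle p.2
    exact (Subtype.ext hqp : q = p) ▸ hq
  have hstem : Cfsg.IsStemExtension τ := ⟨hτ, fun p hp => Subgroup.mem_center_iff.2 fun q =>
    Subtype.ext (Subgroup.mem_center_iff.1 (hcen (p : ↥Γ) hp) q), fun p _ => hD p⟩
  have hcard : Nat.card τ.ker ∣ 2 := card_ker_dvd_two hN hstem
  have hcard' : Nat.card τ.ker ≤ 2 := Nat.le_of_dvd two_pos hcard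
  let fk : ↥τ.ker →* ↥(Subgroup.center A) :=
    (f.comp τ.ker.subtype).codRestrict _ fun p => (hker _).1 p.2
  have hfk : Function.Surjective fk := fun c => by
    obtain ⟨p, hp⟩ := hf c
    exact ⟨⟨p, show σ (f p) = 1 by rw [hp]; exact (hker _).2 c.2⟩, Subtype.ext hp⟩
  have hfinj : Function.Injective fk :=
    (hfk.bijective_of_nat_card_le (hcard'.trans hZ.ge)).1
  obtain ⟨aj, haj⟩ := hσ (π jF)
  obtain ⟨ak, hak⟩ := hσ (π kF)
  let e₂ : ↥D := ⟨⁅(⟨(aj, jF), hmemΓ haj⟩ : ↥Γ), ⟨(ak, kF), hmemΓ hak⟩⁆,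
    Subgroup.commutator_mem_commutator (Subgroup.mem_top _) (Subgroup.mem_top _)⟩
  have he₂g : g e₂ = iF ^ 2 := by rw [iF_sq_eq]; rfl
  have he₂ : τ e₂ = 1 := by
    show σ (f e₂) = 1
    rw [hfg, he₂g]
    refine Subtype.ext ?_
    rw [show ((π (iF ^ 2) : ↥ruG) : ↥Lin) = rho (iF ^ 2) from rfl, map_pow, rho_iF, one_pow]
    rfl
  have key : ∀ p : ↥D, τ p = 1 → (f p = 1 ↔ g p = 1) := by
    intro p hp
    have hf1 : f p = 1 → p = 1 := fun h1 => by
      have : (⟨p, hp⟩ : ↥τ.ker) = 1 := hfinj (Subtype.ext (by rw [map_one]; exact h1))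
      exact congrArg Subtype.val this
    refine ⟨fun h1 => by rw [hf1 h1, map_one], fun h1 => ?_⟩
    by_contra hne
    have h2 : f e₂ ≠ 1 := fun h2 => by
      have : e₂ = 1 := congrArg Subtype.val
        (hfinj (a₁ := (⟨e₂, he₂⟩ : ↥τ.ker)) (a₂ := 1) (Subtype.ext (by rw [map_one]; exact h2)))
      exact iF_sq_ne_one (by rw [← he₂g, this, map_one])
    obtain ⟨z, -, hzu⟩ := (Nat.card_eq_two_iff' (1 : ↥(Subgroup.center A))).1 hZ
    have heq : fk ⟨p, hp⟩ = fk ⟨e₂, he₂⟩ :=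
      (hzu _ fun hh => hne (congrArg Subtype.val hh)).trans
        (hzu _ fun hh => h2 (congrArg Subtype.val hh)).symm
    have := congrArg (fun v : ↥τ.ker => g v) (hfinj heq)
    exact iF_sq_ne_one (by rw [← he₂g]; exact this.symm.trans h1)
  obtain ⟨du, dv, p, q, m, huv, hu8, hv4, hb2, hlift⟩ := exists_lifts h
  obtain ⟨hal, hbe, hcomm⟩ := hlift
  -- lifts with a given image
  have hl : ∀ d : ↥fourRu, ∃ P : ↥D, ∃ c ∈ Subgroup.center ↥fourRu, g P = d * c := fun d => by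
    obtain ⟨P, hP⟩ := hτ (π d)
    have hP' : π (g P) = π d := (hfg P).symm.trans hP
    exact ⟨P, d⁻¹ * g P, hπk _ (by rw [map_mul, map_inv, hP', inv_mul_cancel]), by group⟩
  have hc4 : ∀ c ∈ Subgroup.center ↥fourRu, c ^ 4 = 1 := fun c hc => by
    have : (⟨c, hc⟩ : ↥(Subgroup.center ↥fourRu)) ^ 4 = 1 := by rw [← h.1]; exact pow_card_eq_one'
    exact congrArg Subtype.val this
  have h4 : ∀ (P : ↥D) (d c : ↥fourRu), c ∈ Subgroup.center ↥fourRu → g P = d * c →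
      g (P ^ 4) = d ^ 4 := fun P d c hc hP => by
    have hcm : Commute d c := Subgroup.mem_center_iff.1 hc d
    rw [map_pow, hP, hcm.mul_pow, hc4 c hc, mul_one]
  obtain ⟨U, cu, hcu, hU⟩ := hl du
  obtain ⟨V, cv, hcv, hV⟩ := hl dv
  have gU := h4 U du cu hcu hU
  have gV := h4 V dv cv hcv hV
  have hπU : π (du ^ 4) = alR := Subtype.ext hal
  set a₀ := f (U ^ 4) with ha₀
  have hσa₀ : σ a₀ = alR := by rw [ha₀, hfg, gU, hπU]
  have ha₀2 : a₀ ^ 2 = 1 := by
    rw [ha₀, ← map_pow]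
    refine (key _ ?_).2 (by rw [map_pow, gU, hu8])
    show σ (f ((U ^ 4) ^ 2)) = 1
    rw [hfg, map_pow, gU, hu8, map_one]
  have hσV : σ (f (V ^ 4)) = alR := by
    rw [hfg, gV, ← hπU]; exact Subtype.ext huv.symm
  have hfour : ∀ a : A, σ a = alR → ∃ x : A, x ^ 4 = a := by
    intro a ha
    have hca : a₀⁻¹ * a ∈ Subgroup.center A := (hker _).1 (by rw [map_mul, map_inv, hσa₀, ha, inv_mul_cancel])
    have hcV : a₀⁻¹ * f (V ^ 4) ∈ Subgroup.center A :=
      (hker _).1 (by rw [map_mul, map_inv, hσa₀, hσV, inv_mul_cancel])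
    have hne : a₀⁻¹ * f (V ^ 4) ≠ 1 := fun hh => by
      have h1 : f ((U ^ 4)⁻¹ * V ^ 4) = 1 := by rw [map_mul, map_inv]; exact hh
      have h2 := (key _ (by show σ (f _) = 1; rw [h1, map_one])).1 h1
      rw [map_mul, map_inv, gU, gV, hv4, inv_mul_eq_one] at h2
      exact iF_sq_ne_one (right_eq_mul.1 h2)
    obtain ⟨z, -, hzu⟩ := (Nat.card_eq_two_iff' (1 : ↥(Subgroup.center A))).1 hZ
    by_cases h1 : a₀⁻¹ * a = 1
    · exact ⟨f U, by rw [← map_pow, ← ha₀]; exact inv_mul_eq_one.1 h1⟩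
    · have := congrArg Subtype.val ((hzu ⟨_, hca⟩ fun hh => h1 (congrArg Subtype.val hh)).trans
        (hzu ⟨_, hcV⟩ fun hh => hne (congrArg Subtype.val hh)).symm)
      exact ⟨f V, by rw [← map_pow]; exact (mul_left_cancel this).symm⟩
  have hLA : ∀ a : A, σ a = alR → a ^ 2 = 1 := fun a ha => by
    have hca : a₀⁻¹ * a ∈ Subgroup.center A :=
      (hker _).1 (by rw [map_mul, map_inv, hσa₀, ha, inv_mul_cancel])
    have hcm : Commute a₀ (a₀⁻¹ * a) := Subgroup.mem_center_iff.1 hca a₀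
    rw [show a = a₀ * (a₀⁻¹ * a) by group, hcm.mul_pow, ha₀2, hc2 _ hca, one_mul]
  have hLB : ∀ a : A, σ a = beR → a ^ 2 ≠ 1 := fun a ha hh => by
    obtain ⟨ap, hap⟩ := hσ (π p)
    obtain ⟨aq, haq⟩ := hσ (π q)
    let B : ↥D := (⟨⁅(⟨(ap, p), hmemΓ hap⟩ : ↥Γ), ⟨(aq, q), hmemΓ haq⟩⁆,
      Subgroup.commutator_mem_commutator (Subgroup.mem_top _) (Subgroup.mem_top _)⟩ : ↥D) ^ m
    have gB : g B = ⁅p, q⁆ ^ m := by simp only [B, map_pow]; rfl
    have hσB : σ (f B) = beR := by rw [hfg, gB]; exact Subtype.ext hbe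
    have hca : (f B)⁻¹ * a ∈ Subgroup.center A :=
      (hker _).1 (by rw [map_mul, map_inv, hσB, ha, inv_mul_cancel])
    have hcm : Commute (f B) ((f B)⁻¹ * a) := Subgroup.mem_center_iff.1 hca _
    rw [show a = f B * ((f B)⁻¹ * a) by group, hcm.mul_pow, hc2 _ hca, mul_one, ← map_pow] at hh
    have h2 := (key (B ^ 2) (by show σ (f _) = 1; rw [hh, map_one])).1 hh
    rw [map_pow, gB, hb2] at h2
    exact iF_sq_ne_one h2
  have hinv : ∀ s : A, s ^ 2 = 1 → s ∉ Subgroup.center A →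
      ∃ w a : A, σ a = alR ∧ s = w * a * w⁻¹ := by
    intro s hs hns
    obtain ⟨t, ht⟩ := involution_classes hN (x := σ s) (by rw [← map_pow, hs, map_one])
      (fun e => hns ((hker s).1 e))
    obtain ⟨w, rfl⟩ := hσ t
    rcases ht with ht | ht
    · exact ⟨w, w⁻¹ * s * w, by rw [map_mul, map_mul, map_inv, ht]; group, by group⟩
    · exfalso
      refine hLB (w⁻¹ * s * w) (by rw [map_mul, map_mul, map_inv, ht]; group) ?_
      rw [show w⁻¹ * s * w = w⁻¹ * s * (w⁻¹)⁻¹ by rw [inv_inv], conj_pow, hs, mul_one, mul_inv_cancel]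
  have hsylcomm : ∀ a : A, σ a ∈ sylR → Commute a a₀ := by
    intro a ha
    let S : Subgroup ↥Lin := (((Subgroup.centralizer ({a₀} : Set A)).map σ)).map ruG.subtype
    have hle : syl ≤ S := by
      refine (Subgroup.closure_le _).2 fun x hx => ?_
      obtain ⟨d, hd, hdc⟩ := hcomm x hx
      obtain ⟨b, hb⟩ := hσ (π d)
      refine ⟨π d, ⟨b, Subgroup.mem_centralizer_singleton_iff.2 ?_, hb⟩, hd⟩
      obtain ⟨u', hu'⟩ := hσ (π (du ^ 4))
      let K : ↥D := ⟨⁅(⟨(b, d), hmemΓ hb⟩ : ↥Γ), ⟨(u', du ^ 4), hmemΓ hu'⟩⁆,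
        Subgroup.commutator_mem_commutator (Subgroup.mem_top _) (Subgroup.mem_top _)⟩
      have gK : g K = 1 := by
        show ⁅d, du ^ 4⁆ = 1
        exact commutatorElement_eq_one_iff_mul_comm.2 hdc
      have fK : f K = 1 := (key K (by show σ (f K) = 1; rw [hfg, gK, map_one])).2 gK
      have hbu : Commute b u' := commutatorElement_eq_one_iff_mul_comm.1 fK
      have hcu' : u'⁻¹ * a₀ ∈ Subgroup.center A :=
        (hker _).1 (by rw [map_mul, map_inv, hu', hσa₀, hπU, inv_mul_cancel])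
      have := hbu.mul_right (show Commute b (u'⁻¹ * a₀) from Subgroup.mem_center_iff.1 hcu' b)
      rw [mul_inv_cancel_left] at this
      exact this.eq
    obtain ⟨_, ⟨b, hb, rfl⟩, hba⟩ := hle (show ((σ a : ↥ruG) : ↥Lin) ∈ syl from ha)
    have hca : b⁻¹ * a ∈ Subgroup.center A := (hker _).1 (by
      rw [map_mul, map_inv, show σ b = σ a from Subtype.ext hba, inv_mul_cancel])
    have := (show Commute b a₀ from Subgroup.mem_centralizer_singleton_iff.1 hb).mul_left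
      (show Commute (b⁻¹ * a) a₀ from (Subgroup.mem_center_iff.1 hca a₀).symm)
    rwa [mul_inv_cancel_left] at this
  refine ⟨?_, ?_, ?_, ?_⟩
  · -- automorphisms
    intro φ
    have hφc : (Subgroup.center A).map φ.toMonoidHom = Subgroup.center A :=
      Subgroup.characteristic_iff_map_eq.1 inferInstance φ
    let φq : MulAut (A ⧸ Subgroup.center A) := QuotientGroup.congr _ _ φ hφc
    let ψ : MulAut ↥ruG := e.symm.trans (φq.trans e)
    obtain ⟨t, ht⟩ := mem_inn hN ψ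
    obtain ⟨a, ha⟩ := hσ t
    refine ⟨a, fun x => ?_⟩
    have hval : ∀ y : A, (a * y * a⁻¹)⁻¹ * φ y ∈ Subgroup.center A := fun y => by
      refine (hker _).1 ?_
      have h1 : σ (φ y) = ψ (σ y) := by
        show e (QuotientGroup.mk (φ y)) = e (φq (e.symm (e (QuotientGroup.mk y))))
        rw [e.symm_apply_apply]
        rfl
      rw [map_mul, map_inv, h1, ← ht, map_mul, map_mul, map_inv, ha]
      show (t * σ y * t⁻¹)⁻¹ * (t * σ y * t⁻¹) = 1
      group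
    let δ : A →* ↥(Subgroup.center A) :=
      MonoidHom.mk' (fun y => ⟨_, hval y⟩) fun y y' => Subtype.ext (by
        have hc := Subgroup.mem_center_iff.1 (hval y) (a * y' * a⁻¹)⁻¹
        show (a * (y * y') * a⁻¹)⁻¹ * φ (y * y') =
          ((a * y * a⁻¹)⁻¹ * φ y) * ((a * y' * a⁻¹)⁻¹ * φ y')
        rw [map_mul]
        calc (a * (y * y') * a⁻¹)⁻¹ * (φ y * φ y')
            = (a * y' * a⁻¹)⁻¹ * ((a * y * a⁻¹)⁻¹ * φ y) * φ y' := by group
          _ = _ := by rw [hc]; group)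
    have hδ : commutator A ≤ δ.ker := by
      rw [commutator_eq_closure, Subgroup.closure_le]
      rintro _ ⟨y, y', rfl⟩
      rw [SetLike.mem_coe, MonoidHom.mem_ker, map_commutatorElement,
        commutatorElement_eq_one_iff_mul_comm]
      exact Subtype.ext (Subgroup.mem_center_iff.1 (δ y').2 (δ y : A))
    rw [hP.commutator_eq_top] at hδ
    have := congrArg Subtype.val (MonoidHom.mem_ker.1 (hδ (Subgroup.mem_top x)))
    exact (inv_mul_eq_one.1 this).symm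
  · intro s hs hns
    obtain ⟨w, a, ha, rfl⟩ := hinv s hs hns
    obtain ⟨x, hx⟩ := hfour a ha
    exact ⟨w * x * w⁻¹, by rw [conj_pow, hx]⟩
  · intro x hx
    have hx4 : σ x ^ 4 = 1 := by rw [← map_pow]; exact (hker _).2 hx
    by_cases h2 : σ x ^ 2 = 1
    · rw [← map_pow] at h2
      rw [show (4 : ℕ) = 2 * 2 from rfl, pow_mul]
      exact hc2 _ ((hker _).1 h2)
    · obtain ⟨t, ht⟩ := square_class hN hx4 h2
      obtain ⟨w, rfl⟩ := hσ t
      have := hLA (w⁻¹ * x ^ 2 * w) (by rw [map_mul, map_mul, map_inv, map_pow, ht]; group)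
      rw [show w⁻¹ * x ^ 2 * w = w⁻¹ * x ^ 2 * (w⁻¹)⁻¹ by rw [inv_inv], conj_pow,
        conj_eq_one_iff, ← pow_mul] at this
      exact this
  · intro s hs hns
    obtain ⟨w, a, ha, rfl⟩ := hinv s hs hns
    have hca : a₀⁻¹ * a ∈ Subgroup.center A :=
      (hker _).1 (by rw [map_mul, map_inv, hσa₀, ha, inv_mul_cancel])
    refine ⟨(sylR.comap σ).map (MulAut.conj w).toMonoidHom, ?_, ?_, ?_, ?_⟩
    · refine IsPGroup.map (isPGroup_sylR.comap_of_ker_isPGroup σ ?_) _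
      intro ⟨c, hc⟩
      exact ⟨1, Subtype.ext (by rw [pow_one]; exact hc2 c ((hker c).1 hc))⟩
    · rw [show ((MulAut.conj w).toMonoidHom : A →* A) = ((MulAut.conj w : A ≃* A) : A →* A) from rfl,
        Subgroup.index_map_equiv, Subgroup.index_comap_of_surjective _ hσ]
      exact index_sylR hN
    · rintro _ ⟨b, hb, rfl⟩
      have hba : Commute b a := by
        have := (hsylcomm b hb).mul_right (show Commute b (a₀⁻¹ * a) from
          Subgroup.mem_center_iff.1 hca b)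
        rwa [mul_inv_cancel_left] at this
      exact hba.map (MulAut.conj w).toMonoidHom
    · rintro _ ⟨u, hu, rfl⟩ hcu2 hbad
      refine syl_root (x := ((σ u : ↥ruG) : ↥Lin)) hu (fun x hx => ?_) ?_
      · have hxs : x ∈ syl := Subgroup.subset_closure hx
        obtain ⟨b, hb⟩ := hσ ⟨x, syl_le hxs⟩
        have h2 : Commute b u := by
          have h3 := hcu2 ((MulAut.conj w).toMonoidHom b) ⟨b, show σ b ∈ sylR by rw [hb]; exact hxs, rfl⟩
          exact (MulAut.conj w).injective (by simpa using h3.eq)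
        have h4 := congrArg Subtype.val (h2.map σ).eq
        rw [hb] at h4
        exact h4
      · have h1 : σ (((MulAut.conj w).toMonoidHom u) ^ 2 * (w * a * w⁻¹)⁻¹) = 1 := (hker _).2 hbad
        have h2 : σ w * (σ u ^ 2 * (σ a)⁻¹) * (σ w)⁻¹ = 1 := by
          rw [← h1, show ((MulAut.conj w).toMonoidHom u) = w * u * w⁻¹ from rfl]
          simp only [map_mul, map_inv, map_pow, conj_pow]
          group
        rw [conj_eq_one_iff, mul_inv_eq_one, ha, sq] at h2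
        exact congrArg Subtype.val h2

end Cfsg.Agent.Lib.Ru76
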