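import Cfsg.Agent.Lib.Ru76.CentP

/-!
# Signs of lifts in the automorphism group of the lattice
-/

set_option autoImplicit false
set_option maxRecDepth 100000

namespace Cfsg.Agent.Lib.Ru76

open Cfsg.Spor Cfsg.Agent.Lib.Compute Cfsg.Agent.Lib.RuLattice
open scoped commutatorElement

attribute [local irreducible] mulC oneC actC

/-- The generators of the automorphism group and their inverses. -/
def genF (j : ℕ) : fourRu := [xF, yF, zF, xF⁻¹, yF⁻¹, zF⁻¹].getD j 1

/-- The lift of a word. -/
def wordF : List ℕ → fourRu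
  | [] => 1
  | j :: w => genF j * wordF w

theorem wordF_append : ∀ a b : List ℕ, wordF (a ++ b) = wordF a * wordF b
  | [], b => (one_mul _).symm
  | j :: a, b => by rw [List.cons_append, wordF, wordF, wordF_append a b, mul_assoc]

theorem genF_opp : ∀ {j : ℕ}, j < 6 → genF ((j + 3) % 6) = (genF j)⁻¹ := by
  intro j hj
  interval_cases j <;> simp [genF]

theorem wordF_inv : ∀ {w : List ℕ}, (∀ j ∈ w, j < 6) →
    wordF (w.reverse.map fun j => (j + 3) % 6) = (wordF w)⁻¹
  | [], _ => inv_one.symm
  | j :: w, h => by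
    rw [List.reverse_cons, List.map_append, wordF_append, wordF_inv fun i hi => h i (List.mem_cons_of_mem _ hi)]
    simp only [List.map_cons, List.map_nil, wordF, mul_one, genF_opp (h j List.mem_cons_self),
      mul_inv_rev]

theorem wordF_replicate (w : List ℕ) : ∀ n : ℕ, wordF (List.replicate n w).flatten = wordF w ^ n
  | 0 => (pow_zero _).symm
  | n + 1 => by rw [List.replicate_succ, List.flatten_cons, wordF_append, wordF_replicate w n, pow_succ']

theorem enc_rho_genF (j : ℕ) : gCoding.enc (rho (genF j)) = (genAt (both gS) gOps j).1 := by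
  by_cases hj : j < 6
  · rw [genF, gS, code_checks]
    interval_cases j
    · exact enc_xF.1
    · exact enc_yF.1
    · exact enc_zF.1
    · show gCoding.enc (rho xF⁻¹) = _
      rw [map_inv]; exact enc_xF.2
    · show gCoding.enc (rho yF⁻¹) = _
      rw [map_inv]; exact enc_yF.2
    · show gCoding.enc (rho zF⁻¹) = _
      rw [map_inv]; exact enc_zF.2
  · rw [genF, List.getD_eq_default _ _ (by simp; omega), genAt, gS, code_checks,
      List.getD_eq_default _ _ (by simp [both]; omega), map_one]
    exact gCoding.one_enc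

theorem enc_rho_wordF : ∀ w : List ℕ, gCoding.enc (rho (wordF w)) = (wordS w).1
  | [] => by rw [wordF, map_one]; exact gCoding.one_enc
  | j :: w => by
    rw [wordF, map_mul, ← enc_mulG, enc_rho_genF, enc_rho_wordF w, wordS, wordS, wordP]
    simp only [forceNat_eq]
    rfl

theorem rho_wordF [Finite ↥ruG] (w : List ℕ) : rho (wordF w) = elemW w :=
  gCoding.inj ((enc_rho_wordF w).trans (enc_elemW w).symm)

/-- Force an integer before passing it on. -/
noncomputable def forceZ {α : Type} : ℤ → (ℤ → α) → α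
  | Int.ofNat n, k => forceNat n fun n => k (Int.ofNat n)
  | Int.negSucc n, k => forceNat n fun n => k (Int.negSucc n)

theorem forceZ_eq {α : Type} : ∀ (x : ℤ) (k : ℤ → α), forceZ x k = k x
  | Int.ofNat n, k => by rw [forceZ, forceNat_eq]
  | Int.negSucc n, k => by rw [forceZ, forceNat_eq]

/-- Force a list before passing it on. -/
noncomputable def forceL {α : Type} : List ℤ → (List ℤ → α) → α
  | [], k => k []
  | a :: l, k => forceZ a fun a => forceL l fun l => k (a :: l)

theorem forceL_eq {α : Type} : ∀ (l : List ℤ) (k : List ℤ → α), forceL l k = k l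
  | [], k => rfl
  | a :: l, k => by rw [forceL, forceZ_eq, forceL_eq l]

/-- One step on lists. -/
def stepL (j : ℕ) (l : List ℤ) : List ℤ :=
  bif Nat.blt j 6 then
    (appL ([LiftData.matX, LiftData.matY, LiftData.matZ, LiftData.matXi, LiftData.matYi,
      LiftData.matZi].getD j []) l).map (· / 4)
  else l

/-- A word applied to a list. -/
noncomputable def appW : List ℕ → List ℤ → List ℤ
  | [], l => l
  | j :: w, l => forceL (appW w l) fun l' => forceL (stepL j l') id

/-- The generators of the Sylow subgroup as words in the first three. -/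
def pcGW : List (List ℕ) := [[0], [1], [2], [0, 0], [0, 2, 0, 2], [0, 1, 0, 1], [2, 2],
  [0, 1, 0, 0, 1, 0], [0, 0, 0, 0], [2, 1, 2, 2, 1, 2], [1, 0, 2, 1, 0, 2],
  [0, 1, 0, 1, 0, 1, 0, 1], [0, 2, 0, 0, 2, 0], [0, 0, 0, 0, 0, 0, 0, 0]]

/-- Substitution of the first three generators. -/
def substG (v : List ℕ) : List ℕ := (v.map fun i => (CentData.pcW.take 3).getD i []).flatten

theorem pcGW_check : pcGW.map (fun v => (wordS (substG v)).1) = pcList := by decide +kernel

theorem stepL_length (j : ℕ) {l : List ℤ} (hl : l.length = 56) : (stepL j l).length = 56 := by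
  rw [stepL]
  cases Nat.blt j 6
  · exact hl
  · simp [appL]

theorem coe_genF (j : ℕ) {v : ruLattice} {l : List ℤ} (hl : l.length = 56)
    (hv : (v : RuVec) = vecL l) : (((genF j).1 v : ruLattice) : RuVec) = vecL (stepL j l) := by
  have key : ∀ {A c : List (List ℕ)} (h : mapOK A c = true),
      ((imgHom h v : ruLattice) : RuVec) = vecL ((appL A l).map (· / 4)) := fun h => by
    rw [coe_imgHom, hv, imgV_vecL _ hl]
  by_cases hj : j < 6
  · interval_cases j
    · exact key mapX_check
    · exact key mapY_check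
    · exact key mapZ_check
    · exact key mapXi_check
    · exact key mapYi_check
    · exact key mapZi_check
  · rw [genF, List.getD_eq_default _ _ (by simp; omega), stepL,
      show Nat.blt j 6 = false from Bool.eq_false_iff.2 (by simpa [Nat.blt_eq] using hj)]
    exact hv

theorem coe_wordF {v : ruLattice} {l : List ℤ} (hl : l.length = 56) (hv : (v : RuVec) = vecL l) :
    ∀ w : List ℕ, (appW w l).length = 56 ∧
      (((wordF w).1 v : ruLattice) : RuVec) = vecL (appW w l)
  | [] => ⟨hl, hv⟩
  | j :: w => by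
    obtain ⟨h1, h2⟩ := coe_wordF hl hv w
    rw [appW, forceL_eq, forceL_eq, id_eq]
    exact ⟨stepL_length j h1, coe_genF j h1 h2⟩

/-- The test list. -/
def testL : List ℤ := cmb (LiftData.eComb.getD 0 [])

theorem lift_checks :
    appW (CentData.fourU ++ CentData.fourU ++ CentData.fourU ++ CentData.fourU ++
      (CentData.fourU ++ CentData.fourU ++ CentData.fourU ++ CentData.fourU)) testL = testL ∧
    appW (CentData.fourV ++ CentData.fourV ++ CentData.fourV ++ CentData.fourV) testL =
      rotL (rotL (appW (CentData.fourU ++ CentData.fourU ++ CentData.fourU ++ CentData.fourU) testL)) ∧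
    (let b := (List.replicate CentData.beM (CentData.beP ++ CentData.beQ ++
      (CentData.beP.reverse.map fun j => (j + 3) % 6) ++
        (CentData.beQ.reverse.map fun j => (j + 3) % 6))).flatten
     appW (b ++ b) testL = rotL (rotL testL)) ∧
    ((CentData.pcW.take 3).all fun w => decide
      (appW (w ++ (CentData.fourU ++ CentData.fourU ++ CentData.fourU ++ CentData.fourU)) testL =
        appW ((CentData.fourU ++ CentData.fourU ++ CentData.fourU ++ CentData.fourU) ++ w) testL)) = true ∧
    (CentData.beP ++ CentData.beQ).all (fun j => Nat.blt j 6) = true := by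
  decide +kernel

theorem comm_check : pcList.all (fun g => Nat.beq (mulC g alC) (mulC alC g)) = true := by
  decide +kernel

theorem syl_comm_al [Finite ↥ruG] {g : ↥Lin} (hg : g ∈ pgens) : g * alE = alE * g := by
  have h := List.all_eq_true.1 comm_check (gCoding.enc g)
    (by rw [← enc_pgens]; exact List.mem_map.2 ⟨g, hg, rfl⟩)
  rw [← enc_alE, enc_mulG, enc_mulG] at h
  exact gCoding.inj (Nat.eq_of_beq_eq_true h)

theorem neg_one_pow (v : ruLattice) {l : List ℤ} (hl : l.length = 56) (hv : (v : RuVec) = vecL l) :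
    (((iF ^ 2).1 v : ruLattice) : RuVec) = vecL (rotL (rotL l)) := by
  rw [sq]
  show ((hI (hI v) : ruLattice) : RuVec) = _
  rw [coe_hI, coe_hI, hv, gI_smul_vecL, gI_smul_vecL]

theorem eL0_ne : eL 0 ≠ 0 := fun h => by
  have h3 : par 0 (eL 0) = 1 := by rw [par_eL (by norm_num) (by norm_num), if_pos rfl]
  rw [h, map_zero] at h3
  exact zero_ne_one h3

theorem neg_ne {v : ruLattice} (hv : v ≠ 0) : -v ≠ v := fun h => hv (Subtype.ext (funext fun p => by
  have h' := congrArg (fun w : ruLattice => (w : RuVec) p) h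
  simp only [NegMemClass.coe_neg, Pi.neg_apply] at h'
  have hre := congrArg Zsqrtd.re h'
  have him := congrArg Zsqrtd.im h'
  simp only [Zsqrtd.re_neg, Zsqrtd.im_neg] at hre him
  exact Zsqrtd.ext (by simp; omega) (by simp; omega)))

section

variable (h : Nat.card ↥(Subgroup.center ↥fourRu) = 4 ∧ Nat.card Ru = 145926144000 ∧ IsSimpleGroup Ru)
include h

theorem ker_rho : rho.ker = Subgroup.center ↥fourRu := by
  refine le_antisymm (fun g hg => ?_) (center_le_ker h.1)
  have h1 : rhoQ h.1 (QuotientGroup.mk g) = 1 := hg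
  rw [← map_one (rhoQ h.1)] at h1
  exact (QuotientGroup.eq_one_iff g).1 (rhoQ_injective h.1 h.2.1 h.2.2 h1)

theorem rho_range : rho.range = ruG := by
  rw [← range_rhoQ h.1]
  exact (card_ruG h.1 h.2.1 h.2.2).2.symm

theorem eq_of_test {g g' : fourRu} (hr : rho g = rho g') (hv : g.1 (eL 0) = g'.1 (eL 0)) : g = g' := by
  have hk : g'⁻¹ * g ∈ Subgroup.center ↥fourRu := by
    rw [← ker_rho h, MonoidHom.mem_ker, map_mul, map_inv, hr, inv_mul_cancel]
  have hfix : (g'⁻¹ * g).1 (eL 0) = eL 0 := by
    show (g'⁻¹).1 (g.1 (eL 0)) = eL 0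
    rw [hv]
    exact Equiv.symm_apply_apply g'.1 _
  rw [center_eq h.1] at hk
  obtain ⟨n, hn⟩ := hk
  have h4 : iF ^ (4 : ℕ) = 1 := by rw [← orderOf_iF]; exact pow_orderOf_eq_one _
  have hmod : (g'⁻¹ * g) = iF ^ (n % 4).toNat := by
    rw [← zpow_natCast, Int.toNat_of_nonneg (Int.emod_nonneg _ (by norm_num))]
    rw [show (g'⁻¹ * g) = iF ^ n from hn.symm]
    conv_lhs => rw [← Int.emod_add_mul_ediv n 4]
    rw [zpow_add, zpow_mul, show iF ^ (4 : ℤ) = 1 by rw [← h4]; rfl, one_zpow, mul_one]
  have hlt : (n % 4).toNat < 4 := by omega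
  rw [hmod] at hfix
  have hne := neg_ne eL0_ne
  have h2 : ∀ v, (iF ^ 2).1 v = -v := iF_sq_apply
  suffices (n % 4).toNat = 0 by
    rw [this, pow_zero, inv_mul_eq_one] at hmod; exact hmod.symm
  generalize (n % 4).toNat = k at hfix hlt
  interval_cases k
  · rfl
  · exfalso
    rw [pow_one] at hfix
    apply hne
    rw [← h2, sq]
    show iF.1 (iF.1 (eL 0)) = _
    rw [hfix, hfix]
  · exfalso
    rw [h2] at hfix
    exact hne hfix
  · exfalso
    have h3 : iF.1 (eL 0) = eL 0 := by
      conv_lhs => rw [← hfix]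
      show (iF * iF ^ 3).1 (eL 0) = eL 0
      rw [← pow_succ' iF 3, h4]
      rfl
    apply hne
    rw [← h2, sq]
    show iF.1 (iF.1 (eL 0)) = _
    rw [h3, h3]

theorem eq_of_lists {g g' : fourRu} {l l' : List ℤ} (hr : rho g = rho g')
    (hg : ((g.1 (eL 0) : ruLattice) : RuVec) = vecL l)
    (hg' : ((g'.1 (eL 0) : ruLattice) : RuVec) = vecL l') (hl : l = l') : g = g' :=
  eq_of_test h hr (Subtype.ext (by rw [hg, hg', hl]))

/-- Lifts: two elements whose fourth powers differ by the sign, an involution lifting to an element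
of order four, and a Sylow subgroup centralising a lift. -/
theorem exists_lifts : ∃ du dv p q : fourRu, ∃ m : ℕ,
    rho (du ^ 4) = rho (dv ^ 4) ∧ (du ^ 4) ^ 2 = 1 ∧ dv ^ 4 = iF ^ 2 * du ^ 4 ∧
    (⁅p, q⁆ ^ m) ^ 2 = iF ^ 2 ∧
    (∀ [Finite ↥ruG], rho (du ^ 4) = alE ∧ rho (⁅p, q⁆ ^ m) = beE ∧
      ∀ g ∈ pgens, ∃ d : fourRu, rho d = g ∧ d * du ^ 4 = du ^ 4 * d) := by
  obtain ⟨c1, c2, c3, c4, c5⟩ := lift_checks
  haveI : Finite ↥ruG := Nat.finite_of_card_ne_zero (by
    rw [(card_ruG h.1 h.2.1 h.2.2).1]; norm_num)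
  have htl : testL.length = 56 := cmb_length _
  have hev : ∀ w, (((wordF w).1 (eL 0) : ruLattice) : RuVec) = vecL (appW w testL) := fun w =>
    (coe_wordF htl (v := eL 0) rfl w).2
  have hlen : ∀ w, (appW w testL).length = 56 := fun w => (coe_wordF htl (v := eL 0) rfl w).1
  obtain ⟨f1, f2, -, -⟩ := four_check
  have p4 : ∀ w, wordF (w ++ w ++ w ++ w) = wordF w ^ 4 := fun w => by
    simp only [wordF_append, pow_succ, pow_zero, one_mul, mul_assoc]
  set du := wordF CentData.fourU with hdu
  set dv := wordF CentData.fourV with hdv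
  have ru : rho (du ^ 4) = alE := gCoding.inj (by rw [hdu, ← p4, enc_rho_wordF, f1, enc_alE])
  have rv : rho (dv ^ 4) = alE := gCoding.inj (by rw [hdv, ← p4, enc_rho_wordF, f2, enc_alE])
  have hbe : ∀ j ∈ CentData.beP ++ CentData.beQ, j < 6 := fun j hj => by
    simpa [Nat.blt_eq] using List.all_eq_true.1 c5 j hj
  set p := wordF CentData.beP with hp
  set q := wordF CentData.beQ with hq
  set b := (List.replicate CentData.beM (CentData.beP ++ CentData.beQ ++
      (CentData.beP.reverse.map fun j => (j + 3) % 6) ++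
        (CentData.beQ.reverse.map fun j => (j + 3) % 6))).flatten with hb
  have hbw : wordF b = ⁅p, q⁆ ^ CentData.beM := by
    rw [hb, wordF_replicate, wordF_append, wordF_append, wordF_append,
      wordF_inv fun j hj => hbe j (List.mem_append_left _ hj),
      wordF_inv fun j hj => hbe j (List.mem_append_right _ hj), commutatorElement_def]
  have rb : rho (⁅p, q⁆ ^ CentData.beM) = beE :=
    gCoding.inj (by rw [← hbw, enc_rho_wordF, enc_beE]; rfl)
  have hsq1 : (du ^ 4) ^ 2 = 1 := by
    refine eq_of_lists h ?_ (by rw [hdu, sq, ← p4, ← wordF_append]; exact hev _)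
      (g' := 1) (l' := testL) rfl c1
    rw [map_pow, map_one, ru, sq]
    exact gCoding.inj (by rw [← enc_mulG, enc_alE, enc_oneG]; exact four_check.2.2.1)
  refine ⟨du, dv, p, q, CentData.beM, ru.trans rv.symm, hsq1, ?_, ?_, fun {_} => ⟨ru, rb, ?_⟩⟩
  · refine eq_of_lists h ?_ (by rw [hdv, ← p4]; exact hev _) ?_ c2
    · rw [map_mul, map_pow rho iF, rho_iF, one_pow, one_mul, rv, ru]
    · show (((iF ^ 2).1 ((du ^ 4).1 (eL 0)) : ruLattice) : RuVec) = _
      refine neg_one_pow _ (hlen _) ?_
      rw [hdu, ← p4]; exact hev _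
  · refine eq_of_lists h ?_ (by rw [← hbw, sq, ← wordF_append]; exact hev _)
      (neg_one_pow _ htl rfl) c3
    rw [map_pow, map_pow rho iF, rho_iF, one_pow, rb, sq]
    exact gCoding.inj (by rw [← enc_mulG, enc_beE, enc_oneG]; exact four_check.2.2.2)
  · intro g hg
    have hmem : gCoding.enc g ∈ pcList := by rw [← enc_pgens]; exact List.mem_map.2 ⟨g, hg, rfl⟩
    rw [← pcGW_check] at hmem
    obtain ⟨v, -, hv⟩ := List.mem_map.1 hmem
    refine ⟨wordF (substG v), gCoding.inj ((enc_rho_wordF _).trans hv), ?_⟩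
    have key : ∀ w ∈ CentData.pcW.take 3, wordF w * du ^ 4 = du ^ 4 * wordF w := by
      intro w hw
      have hc := of_decide_eq_true (List.all_eq_true.1 c4 w hw)
      refine eq_of_lists h ?_ (by rw [hdu, ← p4, ← wordF_append]; exact hev _)
        (by rw [hdu, ← p4, ← wordF_append]; exact hev _) hc
      rw [map_mul, map_mul, rho_wordF, ru]
      exact syl_comm_al (List.mem_map.2 ⟨w, List.mem_of_mem_take hw, rfl⟩)
    clear hv
    induction v with
    | nil => exact (Commute.one_left (du ^ 4)).eq
    | cons i v ih =>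
      rw [show substG (i :: v) = (CentData.pcW.take 3).getD i [] ++ substG v by simp [substG],
        wordF_append]
      refine (Commute.mul_left ?_ ih).eq
      rcases Nat.lt_or_ge i (CentData.pcW.take 3).length with hi | hi
      · rw [List.getD_eq_getElem _ _ hi]
        exact key _ (List.getElem_mem hi)
      · rw [List.getD_eq_default _ _ hi]
        exact Commute.one_left (du ^ 4)

end

end Cfsg.Agent.Lib.Ru76
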